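import Groth.Agent.StMod.K862.LevCl
import Groth.Agent.StMod.K908.LunaN1
import Groth.Agent.StMod.K908.LunaN4
import Groth.Agent.StMod.K563.QsDiag

/-!
# The diagonal of a good moduli space maps closed points to closed points

* `eq_of_values` : two closed points of `𝒴` with the same value in `B = Γ(𝒴, O)` are equal;
* `isClosed_map_diag` : for a good moduli space `π : 𝒳 ⟶ M` the diagonal of `π` maps closed points to closed points.
-/

set_option autoImplicit false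
set_option linter.unusedVariables false
set_option linter.style.haveILetI false
set_option backward.isDefEq.respectTransparency false
set_option backward.isDefEq.respectTransparency.types false

universe v' w' v w u

open CategoryTheory CategoryTheory.Limits AlgebraicGeometry Opposite StMod AlgSt AlgSp

namespace K943.DiagClosed

open K906 K907.Tens K862.Rep K862.Over K907.Free K907.Atl K907.Pt K907.Closed K907.GM K907.Van K735.Top

section Sep

variable {S : Scheme.{u}} {𝒴 : BasedCategory.{v, w} (Over S)}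

/-- Two closed points with the same value in `B` are equal. -/
theorem eq_of_values (h𝒴 : FibCat.IsFibGrpd 𝒴.p) (P : Pres 𝒴) {B : Type u} [CommRing B] (s : Fn B 𝒴) (hs : IsFn s)
    (hex : K907.Free.Exact 𝒴) {c₁ c₂ : Points 𝒴} (hc₁ : IsCl h𝒴 {c₁}) (hc₂ : IsCl h𝒴 {c₂}) {K : Type u} [Field K]
    (y₁ y₂ : 𝒴.obj) (h₁ : IsAffine (sch 𝒴 y₁)) (h₂ : IsAffine (sch 𝒴 y₂)) (a₁ : Spec (CommRingCat.of K) ⟶ sch 𝒴 y₁)
    (a₂ : Spec (CommRingCat.of K) ⟶ sch 𝒴 y₂) (hx₁ : pt h𝒴 y₁ (a₁ (IsLocalRing.closedPoint K)) = c₁)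
    (hx₂ : pt h𝒴 y₂ (a₂ (IsLocalRing.closedPoint K)) = c₂)
    (hB : ∀ b : B, a₁.appTop (s.σ y₁ b) = a₂.appTop (s.σ y₂ b)) : c₁ = c₂ := by
  by_contra hne
  obtain ⟨Q, q, e, hq, he⟩ := exists_sep h𝒴 (smCov_of_pres.{0} P) hc₁ hc₂ (by
    rw [Set.disjoint_singleton]
    exact hne)
  obtain ⟨g, hg⟩ := hex q hq e
  obtain ⟨b, hb⟩ := hs.2 g
  have hv : ∀ (y : 𝒴.obj), (q.hom.app y).app ⊤ (s.σ y b) = e.1 y := by
    intro y
    rw [← hg, Mod.globSectMap_val, ← hb]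
    rfl
  have k₁ := (he y₁ h₁ _ (hv y₁)).1 _ (show _ ∈ ({c₁} : Set (Points 𝒴)) from hx₁)
  have k₂ := (he y₂ h₂ _ (hv y₂)).2 _ (show _ ∈ ({c₂} : Set (Points 𝒴)) from hx₂)
  have key : ∀ {X : Scheme.{u}} (a : Spec (CommRingCat.of K) ⟶ X) (f : Γ(X, ⊤)),
      f ∈ (sp (a (IsLocalRing.closedPoint K))).asIdeal → a.appTop f = 0 := by
    intro X a f hf
    have h3 := (mem_sp_comp a (IsLocalRing.closedPoint K) f).1 hf
    by_contra h0
    have h4 : IsUnit (a.appTop f) := by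
      let i := Scheme.ΓSpecIso (CommRingCat.of K)
      have h5 : i.hom (a.appTop f) ≠ 0 := by
        intro h6
        apply h0
        have h7 : i.inv (i.hom (a.appTop f)) = a.appTop f := by
          rw [← CommRingCat.comp_apply, Iso.hom_inv_id]
          rfl
        rw [← h7, h6, map_zero]
      have h8 : IsUnit (i.hom (a.appTop f)) := (isUnit_iff_ne_zero (G₀ := K)).2 h5
      have h9 := h8.map i.inv.hom
      have h7 : i.inv.hom (i.hom (a.appTop f)) = a.appTop f := by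
        change i.inv (i.hom (a.appTop f)) = _
        rw [← CommRingCat.comp_apply, Iso.hom_inv_id]
        rfl
      rwa [h7] at h9
    exact (sp _).isPrime.ne_top (Ideal.eq_top_of_isUnit_mem _ h3 h4)
  have e₁ := key a₁ _ k₁
  have e₂ := key a₂ _ k₂
  rw [map_sub, map_one, ← hB, e₁, sub_zero] at e₂
  have : Nontrivial Γ(Spec (CommRingCat.of K), ⊤) := inferInstance
  exact one_ne_zero e₂

end Sep

section Main

/-- A field-valued point of `|𝒳|` over an algebraically closed field. -/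
theorem exists_rep_algClosed {S : Scheme.{u}} {𝒴 : BasedCategory.{v, w} (Over S)} (h𝒴 : FibCat.IsFibGrpd 𝒴.p) (z : Points 𝒴) :
    ∃ (K : Type u) (_ : Field K) (_ : IsAlgClosed K) (str : Spec (CommRingCat.of K) ⟶ S) (ζ : 𝒴.obj)
      (_ : 𝒴.p.obj ζ = Over.mk str), ∀ t : ↥(sch 𝒴 ζ), pt h𝒴 ζ t = z := by
  obtain ⟨p, rfl⟩ := exists_rep z
  let K : Type u := AlgebraicClosure p.K
  let g : Spec (CommRingCat.of K) ⟶ Spec (CommRingCat.of p.K) := Spec.map (CommRingCat.ofHom (algebraMap p.K K))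
  let g' : Over.mk (g ≫ p.str) ⟶ Over.mk p.str := Over.homMk g rfl
  obtain ⟨ζ, φ, e, -⟩ := K735.Fib.exists_lift h𝒴 (x := p.obj) (g' ≫ eqToHom p.lies.symm)
  refine ⟨K, inferInstance, inferInstance, g ≫ p.str, ζ, e, fun t => ?_⟩
  rw [← pt_map h𝒴 φ t, K907.Disj.mk_eq_pt_self h𝒴 p (ptt p), eq_ptt p (bmap 𝒴 φ t)]

/-- Points of `𝒳_E` over closed points are closed. -/
theorem isCl_of_map {S : Scheme.{u}} [QuasiSeparatedSpace S] {𝒳 : AlgSt.Cat S}
    (h𝒳 : AlgSt.IsAlgStack Scheme.fppfPrecoverage 𝒳) {M : Space S} (hM : IsQuasiSeparatedSp M.obj) (π : 𝒳 ⥤ᵇ ofSp M.obj) (hqs : IsQuasiSeparatedMor π)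
    (E : EtOver M.obj) (hE : IsAffine E.obj.left.left) {x : Points 𝒳} (hx : IsClosed ({x} : Set (Points 𝒳)))
    (c : AlgSt.Points (K906.fibCat π (etaOf E)))
    (hc : AlgSt.Points.map (K906.fibPt π (etaOf E)) c = x) :
    IsCl (K906.isFibGrpd_fibCat (π := π) (η := etaOf E) h𝒳.isStack.1) {c} := by
  have hg := h𝒳.isStack.1
  obtain ⟨A⟩ := K906.nonempty_smAtlas hg h𝒳.atlas
  have hR : ∀ j, Nonempty (K862.LevCl.Rel (A.Z j)) := fun j =>
    K862.LevCl.exists_rel hg A (K563.QsDiag.diag_isQuasiCompactMor h𝒳 M.property hM π hqs) j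
  have hrep : IsRep QfSep (fibPt π (etaOf E)) := (K862.LevCl.isRep_fibPt hg hM π E hE).mono (by
    intro X Y f hf
    haveI : Etale f := hf.1
    exact ⟨⟨Groth.Agent.Desc.LQF.of_unramified f, inferInstance⟩, hf.2⟩)
  have hcx : IsCl hg {x} := K907.Rows.isCl_of_isClosed hg (chartCont_of_isAlgStack h𝒳) hx
  exact K862.LevCl.isCl_over' hg (isFibGrpd_fibCat hg) A hR hrep hcx {c} (by
    rintro d rfl
    exact hc)

/-- The diagonal of a good moduli space maps closed points to closed points. -/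
theorem isClosed_map_diag {S : Scheme.{u}} [QuasiSeparatedSpace S] {𝒳 : AlgSt.Cat S}
    (h𝒳 : AlgSt.IsAlgStack Scheme.fppfPrecoverage 𝒳) (M : Space S) (hM : IsQuasiSeparatedSp M.obj) (π : 𝒳 ⥤ᵇ ofSp M.obj)
    (hqc : IsQuasiCompactMor Scheme.fppfPrecoverage π) (hqs : IsQuasiSeparatedMor π) (h : IsGoodModuli π)
    (hcl : ∀ W : Set (AlgSt.Points (FibCat.fp π π)), IsClosed W → W.Nonempty → ∃ x ∈ W, IsClosed {x})
    (x : AlgSt.Points 𝒳) (hx : IsClosed ({x} : Set (AlgSt.Points 𝒳))) :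
    IsClosed ({AlgSt.Points.map (FibCat.diag π) x} : Set (AlgSt.Points (FibCat.fp π π))) := by
  have hg := h𝒳.isStack.1
  have hof : FibCat.IsFibGrpd (ofSp M.obj).p := K735.Rep.isFibGrpd_ofSp M.obj
  have h𝓕 : FibCat.IsFibGrpd (FibCat.fp π π).p := K735.Fp.isFibGrpd_fp hg hg hof π π
  obtain ⟨z, hz, hzc⟩ := hcl (closure {AlgSt.Points.map (FibCat.diag π) x}) isClosed_closure ⟨_, subset_closure rfl⟩
  suffices hzx : z = AlgSt.Points.map (FibCat.diag π) x by rw [← hzx]; exact hzc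
  have hproj : ∀ F : FibCat.fp π π ⥤ᵇ 𝒳, (AlgSt.Points.map F (AlgSt.Points.map (FibCat.diag π) x) = x) →
      AlgSt.Points.map F z = x := by
    intro F hF
    have h1 := image_closure_subset_closure_image (continuous_map (chartCont_of_isAlgStack h𝒳) F)
      (Set.mem_image_of_mem _ hz)
    rw [Set.image_singleton, hF, hx.closure_eq] at h1
    exact h1
  have hp₁ : AlgSt.Points.map (FibCat.fpFst π π) z = x := hproj _ (by
    obtain ⟨p, rfl⟩ := exists_rep x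
    exact K735.Pts.mk_eq_of_hom (𝟙 p.obj))
  have hp₂ : AlgSt.Points.map (FibCat.fpSnd π π) z = x := hproj _ (by
    obtain ⟨p, rfl⟩ := exists_rep x
    exact K735.Pts.mk_eq_of_hom (𝟙 p.obj))
  obtain ⟨K, _, _, str, ζ, hζ, hζz⟩ := exists_rep_algClosed h𝓕 z
  let x₁ : 𝒳.obj := ζ.obj.fst
  let x₂ : 𝒳.obj := ζ.obj.snd
  have hx₁ : 𝒳.p.obj x₁ = Over.mk str := hζ
  have hx₂ : 𝒳.p.obj x₂ = Over.mk str := (K735.Fp.fp_snd_eq ζ).trans hζ
  -- the two projections of the point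
  have hsub : ∀ {y : 𝒳.obj} (hy : 𝒳.p.obj y = Over.mk str) (t t' : ↥(sch 𝒳 y)), t = t' := by
    intro y hy t t'
    have h1 : Subsingleton ↥(Spec (CommRingCat.of K)) := inferInstanceAs (Subsingleton (PrimeSpectrum K))
    let j : sch 𝒳 y ≅ Spec (CommRingCat.of K) := (Over.forget S).mapIso (eqToIso hy)
    exact (Scheme.homeoOfIso j).injective (Subsingleton.elim _ _)
  let a₁ : Spec (CommRingCat.of K) ⟶ sch 𝒳 x₁ := (eqToHom hx₁.symm).left
  let a₂ : Spec (CommRingCat.of K) ⟶ sch 𝒳 x₂ := (eqToHom hx₂.symm).left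
  have hpt₁ : ∀ t : ↥(sch 𝒳 x₁), pt hg x₁ t = x := by
    intro t
    have h1 := map_pt h𝓕 hg (FibCat.fpFst π π) (ξ := ζ) (𝟙 _) t
    rw [hζz, hp₁] at h1
    rw [h1]
    exact congrArg (pt hg x₁) (hsub hx₁ _ _)
  have hpt₂ : ∀ t : ↥(sch 𝒳 x₂), pt hg x₂ t = x := by
    intro t
    have h1 := map_pt h𝓕 hg (FibCat.fpSnd π π) (ξ := ζ) (𝟙 _) (a₁ (IsLocalRing.closedPoint K))
    rw [hζz, hp₂] at h1
    rw [h1]
    exact congrArg (pt hg x₂) (hsub hx₂ _ _)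
  -- an étale neighbourhood
  let i : (π.obj x₁).base.left ≅ Spec (CommRingCat.of K) := (Over.forget S).mapIso (eqToIso ((π.w_obj x₁).trans hx₁))
  obtain ⟨E, a, hE⟩ := K908.LunaN4.exists_etOver_nhd M.property (π.obj x₁) i
  let y₁ : (K906.fibCat π (etaOf E)).obj := (⟨x₁, a⟩ : FObj π (etaOf E))
  let y₂ : (K906.fibCat π (etaOf E)).obj := (⟨x₂, ζ.obj.iso.inv ≫ a⟩ : FObj π (etaOf E))
  have h𝒴 : FibCat.IsFibGrpd (K906.fibCat π (etaOf E)).p := K906.isFibGrpd_fibCat hg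
  obtain ⟨hex, ⟨P⟩⟩ := K907.GM.exact_and_pres h𝒳 hM hqc hqs h.1 E hE
  have hfn := isFn π E h.2
  have hB : ∀ b, a₁.appTop ((fn π E).σ y₁ b) = a₂.appTop ((fn π E).σ y₂ b) := by
    intro b
    have h1 : eqToHom hx₁.symm ≫ fbase (⟨x₁, a⟩ : FObj π (etaOf E)) =
        eqToHom hx₂.symm ≫ fbase (⟨x₂, ζ.obj.iso.inv ≫ a⟩ : FObj π (etaOf E)) := by
      have hv := (K735.Fp.fp_vert ζ).map_eq
      have hv' : (ofSp M.obj).p.map ζ.obj.iso.inv = eqToHom (K735.Fp.fp_vert ζ).eq := by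
        rw [← cancel_epi ((ofSp M.obj).p.map ζ.obj.iso.hom), ← Functor.map_comp, Iso.hom_inv_id,
          CategoryTheory.Functor.map_id, hv, eqToHom_trans, eqToHom_refl]
      change eqToHom hx₁.symm ≫ eqToHom (π.w_obj x₁).symm ≫ (ofSp M.obj).p.map a =
        eqToHom hx₂.symm ≫ eqToHom (π.w_obj x₂).symm ≫ (ofSp M.obj).p.map (ζ.obj.iso.inv ≫ a)
      rw [Functor.map_comp, hv', eqToHom_trans_assoc, eqToHom_trans_assoc, eqToHom_trans_assoc]
    have h2 : a₁ ≫ (fbase (⟨x₁, a⟩ : FObj π (etaOf E))).left =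
        a₂ ≫ (fbase (⟨x₂, ζ.obj.iso.inv ≫ a⟩ : FObj π (etaOf E))).left := congrArg (fun k => k.left) h1
    have h3 := congrArg (fun k => k.appTop b) h2
    rw [Scheme.Hom.comp_appTop, Scheme.Hom.comp_appTop] at h3
    exact h3
  have hmap : ∀ (y : FObj π (etaOf E)) (t : ↥(sch 𝒳 y.pt)),
      AlgSt.Points.map (K906.fibPt π (etaOf E)) (pt h𝒴 y t) = pt hg y.pt t := by
    intro y t
    have h1 := map_pt h𝒴 hg (K906.fibPt π (etaOf E)) (ξ := y) (𝟙 _) t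
    rw [h1]
    congr 1
    have e : (baseOver (K906.fibPt π (etaOf E)) y (𝟙 ((K906.fibPt π (etaOf E)).obj y))) = 𝟙 (𝒳.p.obj y.pt) := by
      unfold baseOver
      rw [CategoryTheory.Functor.map_id]
      exact Category.comp_id _
    rw [e]
    rfl
  have hc₁ := isCl_of_map h𝒳 hM π hqs E hE hx (pt h𝒴 y₁ (a₁ (IsLocalRing.closedPoint K))) ((hmap y₁ _).trans (hpt₁ _))
  have hc₂ := isCl_of_map h𝒳 hM π hqs E hE hx (pt h𝒴 y₂ (a₂ (IsLocalRing.closedPoint K))) ((hmap y₂ _).trans (hpt₂ _))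
  have haff : ∀ {y : 𝒳.obj} (hy : 𝒳.p.obj y = Over.mk str), IsAffine (sch 𝒳 y) := by
    intro y hy
    change IsAffine (𝒳.p.obj y).left
    rw [hy]
    change IsAffine (Spec (CommRingCat.of K))
    infer_instance
  have hcc := eq_of_values h𝒴 P (fn π E) hfn hex hc₁ hc₂ y₁ y₂ (haff hx₁) (haff hx₂) a₁ a₂ rfl rfl hB
  obtain ⟨w, φ₁, φ₂, r, hw, ⟨t⟩, e₁, e₂⟩ := K908.LunaN1.exists_common h𝒴 P (fn π E) hfn hex _ hc₁ y₁ y₂ (haff hx₁)
    (haff hx₂) a₁ a₂ rfl hcc.symm hB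
  -- the arrow from the diagonal
  let ψ₁ : FObj.pt w ⟶ x₁ := FObj.Hom.hom φ₁
  let ψ₂ : FObj.pt w ⟶ x₂ := FObj.Hom.hom φ₂
  have e₁' : bmap 𝒳 ψ₁ = r ≫ a₁ := e₁
  have e₂' : bmap 𝒳 ψ₂ = r ≫ a₂ := e₂
  have hψ : 𝒳.p.map ψ₁ ≫ eqToHom hx₁ = 𝒳.p.map ψ₂ ≫ eqToHom hx₂ := by
    apply Over.OverMorphism.ext
    change bmap 𝒳 ψ₁ ≫ (eqToHom hx₁).left = bmap 𝒳 ψ₂ ≫ (eqToHom hx₂).left
    have h1 : a₁ ≫ (eqToHom hx₁).left = 𝟙 _ := by
      change (eqToHom hx₁.symm ≫ eqToHom hx₁).left = _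
      rw [eqToHom_trans, eqToHom_refl]
      rfl
    have h2 : a₂ ≫ (eqToHom hx₂).left = 𝟙 _ := by
      change (eqToHom hx₂.symm ≫ eqToHom hx₂).left = _
      rw [eqToHom_trans, eqToHom_refl]
      rfl
    rw [e₁', e₂', Category.assoc, Category.assoc, h1, h2]
  have hsq : π.map ψ₁ ≫ ζ.obj.iso.hom = ((FibCat.diag π).obj (FObj.pt w)).obj.iso.hom ≫ π.map ψ₂ := by
    have hD : ((FibCat.diag π).obj (FObj.pt w)).obj.iso.hom = 𝟙 _ := rfl
    rw [hD, Category.id_comp]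
    apply Stk.EltObj.hom_ext
    change (ofSp M.obj).p.map (π.map ψ₁ ≫ ζ.obj.iso.hom) = (ofSp M.obj).p.map (π.map ψ₂)
    rw [Functor.map_comp, (K735.Fp.fp_vert ζ).map_eq, K735.Fib.map_map π ψ₁, K735.Fib.map_map π ψ₂]
    have h3 : 𝒳.p.map ψ₁ = 𝒳.p.map ψ₂ ≫ eqToHom (hx₂.trans hx₁.symm) := by
      rw [← cancel_mono (eqToHom hx₁), hψ, Category.assoc, eqToHom_trans]
    rw [h3]
    simp
  let D : (FibCat.diag π).obj (FObj.pt w) ⟶ ζ := K735.Fp.homFp ψ₁ ψ₂ hsq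
  have k1 := pt_map h𝓕 D t
  rw [hζz] at k1
  have k2 := map_pt hg h𝓕 (FibCat.diag π) (ξ := FObj.pt w) (𝟙 _) t
  have k3 : pt hg (FObj.pt w) t = x := by
    rw [← pt_map hg ψ₁ t]
    exact hpt₁ _
  rw [k3] at k2
  rw [k2, k1]
  congr 1
  have e : baseOver (FibCat.diag π) (FObj.pt w) (𝟙 ((FibCat.diag π).obj (FObj.pt w))) = 𝟙 (𝒳.p.obj (FObj.pt w)) := by
    unfold baseOver
    rw [CategoryTheory.Functor.map_id]
    exact Category.comp_id _
  rw [e]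
  rfl

end Main

end K943.DiagClosed

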